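import Mathlib

/-!
# Big opens in products over a field: the algebra (helper8; S16428)

`K` a field, `R`, `A` `K`-algebras such that `κ(p) ⊗[K] A` is a domain for every prime `p` of `R`.
If `c, t' ∈ R ⊗[K] A` with `c ^ m * t' ≠ 0` for all `m`, there is a prime `p` of `R` such that the
prime `P = ker (R ⊗ A → κ(p) ⊗ A)` (the generic point of the fibre over `p`) does not contain `c`,
contains the annihilator of `t'`, and is generated by the image of `p`.
-/

set_option autoImplicit false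
universe u
open TensorProduct

namespace Groth.Agent.H8.BigOpen

section KL1

variable {K R A κ : Type u} [Field K] [CommRing R] [CommRing A] [Field κ]
  [Algebra K R] [Algebra K A] [Algebra R κ] [Algebra K κ] [IsScalarTower K R κ]

/-- the inclusion `I ⊗ A → R ⊗ A` -/
noncomputable def jmap (I : Ideal R) : (↥I ⊗[K] A) →ₗ[K] (R ⊗[K] A) :=
  LinearMap.rTensor A ((Submodule.subtype I).restrictScalars K)

/-- the map `I ⊗ A → κ ⊗ A` induced by a functional on `I` -/
noncomputable def psimap {I : Ideal R} (φ : ↥I →ₗ[R] κ) : (↥I ⊗[K] A) →ₗ[K] (κ ⊗[K] A) :=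
  LinearMap.rTensor A (φ.restrictScalars K)

variable (K R A κ) in
/-- the base change map `R ⊗ A → κ ⊗ A` -/
noncomputable def pimap : (R ⊗[K] A) →ₐ[K] (κ ⊗[K] A) :=
  Algebra.TensorProduct.map (IsScalarTower.toAlgHom K R κ) (AlgHom.id K A)

theorem jmap_injective (I : Ideal R) : Function.Injective (jmap (K := K) (A := A) I) := by
  apply Module.Flat.rTensor_preserves_injective_linearMap
  exact fun a b h => Subtype.ext h

theorem exists_act {I : Ideal R} (φ : ↥I →ₗ[R] κ) (b : R ⊗[K] A) (y : ↥I ⊗[K] A) :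
    ∃ y' : ↥I ⊗[K] A, jmap I y' = b * jmap I y ∧
      psimap φ y' = pimap K R A κ b * psimap φ y := by
  induction b using TensorProduct.induction_on generalizing y with
  | zero => exact ⟨0, by simp, by simp⟩
  | tmul r a =>
    induction y using TensorProduct.induction_on with
    | zero => exact ⟨0, by simp, by simp⟩
    | tmul i a' =>
      refine ⟨(r • i) ⊗ₜ (a * a'), ?_, ?_⟩
      · rw [jmap, LinearMap.rTensor_tmul, LinearMap.rTensor_tmul,
          Algebra.TensorProduct.tmul_mul_tmul]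
        rfl
      · rw [psimap, pimap, LinearMap.rTensor_tmul, LinearMap.rTensor_tmul,
          Algebra.TensorProduct.map_tmul, Algebra.TensorProduct.tmul_mul_tmul,
          LinearMap.coe_restrictScalars, map_smul, Algebra.smul_def]
        rfl
    | add y₁ y₂ h₁ h₂ =>
      obtain ⟨z₁, h11, h12⟩ := h₁
      obtain ⟨z₂, h21, h22⟩ := h₂
      exact ⟨z₁ + z₂, by rw [map_add, map_add, h11, h21, mul_add],
        by rw [map_add, map_add, h12, h22, mul_add]⟩
  | add b₁ b₂ h₁ h₂ =>
    obtain ⟨z₁, h11, h12⟩ := h₁ y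
    obtain ⟨z₂, h21, h22⟩ := h₂ y
    exact ⟨z₁ + z₂, by rw [map_add, h11, h21, add_mul],
      by rw [map_add, map_add, h12, h22, add_mul]⟩

theorem kl1 [IsDomain (κ ⊗[K] A)] {I : Ideal R} (φ : ↥I →ₗ[R] κ) (b : R ⊗[K] A)
    (y : ↥I ⊗[K] A) (h0 : b * jmap I y = 0) (hy : psimap φ y ≠ 0) : pimap K R A κ b = 0 := by
  obtain ⟨y', h1, h2⟩ := exists_act φ b y
  rw [h0] at h1
  have hy' : y' = 0 := jmap_injective I (by rw [h1, map_zero])
  rw [hy', map_zero] at h2
  rcases mul_eq_zero.mp h2.symm with h | h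
  · exact h
  · exact absurd h hy

variable (K A) in
/-- a `K`-basis of `A` -/
noncomputable abbrev bA : Module.Basis (Module.Basis.ofVectorSpaceIndex K A) K A :=
  Module.Basis.ofVectorSpace K A

variable (K R A κ) in
theorem repr_pimap (x : R ⊗[K] A) (j : Module.Basis.ofVectorSpaceIndex K A) :
    (Algebra.TensorProduct.basis κ (bA K A)).repr (pimap K R A κ x) j =
      algebraMap R κ ((Algebra.TensorProduct.basis R (bA K A)).repr x j) := by
  induction x using TensorProduct.induction_on with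
  | zero => simp
  | tmul r a =>
    rw [pimap, Algebra.TensorProduct.map_tmul, Algebra.TensorProduct.basis_repr_tmul,
      Algebra.TensorProduct.basis_repr_tmul]
    simp only [Finsupp.smul_apply, Finsupp.mapRange_apply, smul_eq_mul, map_mul,
      IsScalarTower.coe_toAlgHom', AlgHom.coe_id, id]
    rw [← IsScalarTower.algebraMap_apply K R κ]
  | add x y hx hy => simp only [map_add, Finsupp.add_apply, hx, hy]

variable (K R A) in
theorem eq_sum_repr (x : R ⊗[K] A) :
    x = ∑ j ∈ ((Algebra.TensorProduct.basis R (bA K A)).repr x).support,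
      ((Algebra.TensorProduct.basis R (bA K A)).repr x j) ⊗ₜ[K] (bA K A j) := by
  conv_lhs => rw [← (Algebra.TensorProduct.basis R (bA K A)).linearCombination_repr x]
  rw [Finsupp.linearCombination_apply, Finsupp.sum]
  refine Finset.sum_congr rfl fun j _ => ?_
  rw [Algebra.TensorProduct.basis_repr_symm_apply']

variable (K R A) in
theorem mem_of_repr_mem (p : Ideal R) (J : Ideal (R ⊗[K] A))
    (hJ : ∀ r ∈ p, (r ⊗ₜ[K] (1 : A)) ∈ J) (x : R ⊗[K] A)
    (hx : ∀ j, (Algebra.TensorProduct.basis R (bA K A)).repr x j ∈ p) : x ∈ J := by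
  rw [eq_sum_repr K R A x]
  refine Ideal.sum_mem _ fun j _ => ?_
  have h1 : ((Algebra.TensorProduct.basis R (bA K A)).repr x j) ⊗ₜ[K] (bA K A j) =
      (((Algebra.TensorProduct.basis R (bA K A)).repr x j) ⊗ₜ[K] (1 : A)) *
        ((1 : R) ⊗ₜ[K] (bA K A j)) := by
    rw [Algebra.TensorProduct.tmul_mul_tmul, mul_one, one_mul]
  rw [h1]
  exact Ideal.mul_mem_right _ _ (hJ _ (hx j))

end KL1

section KL2

variable (K R A : Type u) [Field K] [CommRing R] [CommRing A] [Algebra K R] [Algebra K A]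

theorem repr_mem_of_pimap_eq_zero (p : Ideal R) [p.IsPrime] (x : R ⊗[K] A)
    (hx : pimap K R A p.ResidueField x = 0) (j : Module.Basis.ofVectorSpaceIndex K A) :
    (Algebra.TensorProduct.basis R (bA K A)).repr x j ∈ p := by
  rw [← Ideal.algebraMap_residueField_eq_zero, ← repr_pimap, hx, map_zero, Finsupp.zero_apply]

variable {R} in
theorem exists_functional (p : Ideal R) [p.IsPrime] (S : Finset R)
    (hann : ∀ r : R, (∀ s ∈ S, r * s = 0) → r ∈ p) :
    ∃ (φ : ↥(Ideal.span (S : Set R)) →ₗ[R] p.ResidueField) (s : R) (hs : s ∈ S),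
      φ ⟨s, Ideal.subset_span hs⟩ ≠ 0 := by
  classical
  haveI : Module.Finite R ↥(Ideal.span (S : Set R)) := Module.Finite.of_fg ⟨S, rfl⟩
  have hle : Module.annihilator R ↥(Ideal.span (S : Set R)) ≤ p := by
    intro r hr
    rw [Module.mem_annihilator] at hr
    refine hann r fun s hs => ?_
    exact congrArg Subtype.val (hr ⟨s, Ideal.subset_span hs⟩)
  have hsupp : (⟨p, inferInstance⟩ : PrimeSpectrum R) ∈
      Module.support R ↥(Ideal.span (S : Set R)) := Module.mem_support_iff_of_finite.mpr hle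
  have hnt : Nontrivial (p.ResidueField ⊗[R] ↥(Ideal.span (S : Set R))) :=
    (Module.mem_support_iff_nontrivial_residueField_tensorProduct _).mp hsupp
  obtain ⟨w, hw⟩ := exists_ne (0 : p.ResidueField ⊗[R] ↥(Ideal.span (S : Set R)))
  obtain ⟨ℓ, hℓ⟩ := Module.Projective.exists_dual_ne_zero p.ResidueField hw
  let φ : ↥(Ideal.span (S : Set R)) →ₗ[R] p.ResidueField :=
    (ℓ.restrictScalars R).comp (TensorProduct.mk R p.ResidueField ↥(Ideal.span (S : Set R)) 1)
  refine ⟨φ, ?_⟩
  by_contra hcon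
  push_neg at hcon
  have hφ0 : ∀ (x : R) (hx : x ∈ Ideal.span (S : Set R)), φ ⟨x, hx⟩ = 0 := by
    intro x hx
    refine Submodule.span_induction (p := fun x hx => φ ⟨x, hx⟩ = 0) ?_ ?_ ?_ ?_ hx
    · intro s hs
      exact hcon s (Finset.mem_coe.mp hs)
    · exact map_zero φ
    · intro x y hx hy h1 h2
      have h3 : (⟨x + y, add_mem hx hy⟩ : ↥(Ideal.span (S : Set R))) = ⟨x, hx⟩ + ⟨y, hy⟩ := rfl
      rw [h3, map_add, h1, h2, add_zero]
    · intro a x hx h1
      have h3 : (⟨a • x, Submodule.smul_mem _ a hx⟩ : ↥(Ideal.span (S : Set R))) =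
          a • ⟨x, hx⟩ := rfl
      rw [h3, map_smul, h1, smul_zero]
  have hℓ0 : ∀ w', ℓ w' = 0 := by
    intro w'
    induction w' using TensorProduct.induction_on with
    | zero => exact map_zero ℓ
    | tmul x n =>
      have h3 : x ⊗ₜ[R] n = x • ((1 : p.ResidueField) ⊗ₜ[R] n) := by
        rw [TensorProduct.smul_tmul', smul_eq_mul, mul_one]
      have h4 : ℓ ((1 : p.ResidueField) ⊗ₜ[R] n) = φ ⟨n.1, n.2⟩ := rfl
      rw [h3, map_smul, h4, hφ0, smul_zero]
    | add x y hx hy => rw [map_add, hx, hy, add_zero]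
  exact hℓ (hℓ0 w)

theorem kl2 (p : Ideal R) [p.IsPrime] (τ : R ⊗[K] A)
    (hτ : ∀ r : R, (r ⊗ₜ[K] (1 : A)) * τ = 0 → r ∈ p) :
    ∃ (I : Ideal R) (φ : ↥I →ₗ[R] p.ResidueField) (y : ↥I ⊗[K] A),
      jmap I y = τ ∧ psimap φ y ≠ 0 := by
  classical
  set c := (Algebra.TensorProduct.basis R (bA K A)).repr τ with hc
  have hann : ∀ r : R, (∀ s ∈ c.support.image c, r * s = 0) → r ∈ p := by
    intro r hr
    apply hτ
    conv_lhs => rw [eq_sum_repr K R A τ]
    rw [Finset.mul_sum]
    refine Finset.sum_eq_zero fun j hj => ?_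
    rw [Algebra.TensorProduct.tmul_mul_tmul, one_mul, ← hc,
      hr (c j) (Finset.mem_image_of_mem _ hj), zero_tmul]
  obtain ⟨φ, s, hs, hφs⟩ := exists_functional p (c.support.image c) hann
  obtain ⟨j₀, hj₀, rfl⟩ := Finset.mem_image.mp hs
  have hcI : ∀ j, c j ∈ Ideal.span ((c.support.image c : Finset R) : Set R) := by
    intro j
    by_cases hj : j ∈ c.support
    · exact Ideal.subset_span (Finset.mem_coe.mpr (Finset.mem_image_of_mem _ hj))
    · rw [Finsupp.notMem_support_iff.mp hj]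
      exact Ideal.zero_mem _
  refine ⟨_, φ, ∑ j ∈ c.support, (⟨c j, hcI j⟩ : ↥(Ideal.span _)) ⊗ₜ[K] (bA K A j), ?_, ?_⟩
  · rw [map_sum]
    conv_rhs => rw [eq_sum_repr K R A τ]
    refine Finset.sum_congr rfl fun j _ => ?_
    rw [jmap, LinearMap.rTensor_tmul]
    rfl
  · intro hΨ
    have h1 := congrArg
      (fun z => (Algebra.TensorProduct.basis p.ResidueField (bA K A)).repr z j₀) hΨ
    simp only [map_sum, map_zero, Finsupp.zero_apply, Finsupp.coe_finset_sum,
      Finset.sum_apply] at h1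
    have key : ∀ j ∈ c.support, ((Algebra.TensorProduct.basis p.ResidueField (bA K A)).repr
        (psimap φ ((⟨c j, hcI j⟩ : ↥(Ideal.span _)) ⊗ₜ[K] (bA K A j)))) j₀ =
        if j = j₀ then φ ⟨c j, hcI j⟩ else 0 := by
      intro j _
      rw [psimap, LinearMap.rTensor_tmul, Algebra.TensorProduct.basis_repr_tmul,
        Module.Basis.repr_self, Finsupp.mapRange_single, map_one, Finsupp.smul_apply,
        Finsupp.single_apply, smul_eq_mul, LinearMap.coe_restrictScalars]
      split_ifs <;> simp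
    rw [Finset.sum_congr rfl key, Finset.sum_ite_eq' c.support j₀, if_pos hj₀] at h1
    exact hφs h1

end KL2

section ALG

variable (K R A : Type u) [Field K] [CommRing R] [CommRing A] [Algebra K R] [Algebra K A]

theorem alg (hdom : ∀ (p : Ideal R) [p.IsPrime], IsDomain (p.ResidueField ⊗[K] A))
    (c t' : R ⊗[K] A) (hct : ∀ m : ℕ, c ^ m * t' ≠ 0) :
    ∃ P : Ideal (R ⊗[K] A), P.IsPrime ∧ c ∉ P ∧ (∀ b, b * t' = 0 → b ∈ P) ∧
      P ≤ Ideal.map (Algebra.TensorProduct.includeLeftRingHom : R →+* R ⊗[K] A)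
        (Ideal.comap (Algebra.TensorProduct.includeLeftRingHom : R →+* R ⊗[K] A) P) := by
  classical
  have h𝔞 : ∀ b, b ∈ (Submodule.span (R ⊗[K] A) {t'}).annihilator ↔ b * t' = 0 := fun b => by
    rw [Submodule.mem_annihilator_span_singleton, smul_eq_mul]
  have hdisj : Disjoint (((Submodule.span (R ⊗[K] A) {t'}).annihilator : Ideal (R ⊗[K] A)) :
      Set (R ⊗[K] A)) (Submonoid.powers c) := by
    rw [Set.disjoint_left]
    rintro x hx ⟨m, rfl⟩
    exact hct m ((h𝔞 _).mp hx)
  obtain ⟨𝔮, h𝔮, h𝔞𝔮, h𝔮c⟩ := Ideal.exists_le_prime_disjoint _ (Submonoid.powers c) hdisj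
  haveI : (𝔮.comap (Algebra.TensorProduct.includeLeftRingHom : R →+* R ⊗[K] A)).IsPrime :=
    Ideal.comap_isPrime _ 𝔮
  set p : Ideal R := 𝔮.comap (Algebra.TensorProduct.includeLeftRingHom : R →+* R ⊗[K] A) with hp
  haveI := hdom p
  have hker𝔮 : ∀ x, pimap K R A p.ResidueField x = 0 → x ∈ 𝔮 := fun x hx =>
    mem_of_repr_mem K R A p 𝔮 (fun r hr => hr) x (repr_mem_of_pimap_eq_zero K R A p x hx)
  refine ⟨RingHom.ker (pimap K R A p.ResidueField), RingHom.ker_isPrime _, ?_, ?_, ?_⟩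
  · intro hc
    exact Set.disjoint_left.mp h𝔮c (hker𝔮 c hc) ⟨1, pow_one c⟩
  · intro b hb
    obtain ⟨I, φ, y, hy1, hy2⟩ := kl2 K R A p t' (fun r hr => h𝔞𝔮 ((h𝔞 _).mpr hr))
    rw [RingHom.mem_ker]
    exact kl1 φ b y (by rw [hy1]; exact hb) hy2
  · intro x hx
    refine mem_of_repr_mem K R A p _ (fun r hr => ?_) x
      (repr_mem_of_pimap_eq_zero K R A p x hx)
    have h1 : r ∈ Ideal.comap (Algebra.TensorProduct.includeLeftRingHom : R →+* R ⊗[K] A)
        (RingHom.ker (pimap K R A p.ResidueField)) := by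
      rw [Ideal.mem_comap, RingHom.mem_ker]
      change pimap K R A p.ResidueField (r ⊗ₜ[K] (1 : A)) = 0
      rw [pimap, Algebra.TensorProduct.map_tmul, IsScalarTower.coe_toAlgHom',
        Ideal.algebraMap_residueField_eq_zero.mpr hr, zero_tmul]
    exact Ideal.mem_map_of_mem _ h1

end ALG

/-- The main algebraic statement, transported along a presentation `R ⊗[K] A ≃+* B`. -/
theorem algmain {K R A B : Type u} [Field K] [CommRing R] [CommRing A] [CommRing B]
    [Algebra K R] [Algebra K A] (e : (R ⊗[K] A) ≃+* B) (ιR : R →+* B)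
    (hι : ∀ r : R, e (r ⊗ₜ[K] (1 : A)) = ιR r)
    (hdom : ∀ (p : Ideal R) [p.IsPrime], IsDomain (p.ResidueField ⊗[K] A))
    (c t' : B) (hct : ∀ m : ℕ, c ^ m * t' ≠ 0) :
    ∃ P : Ideal B, P.IsPrime ∧ c ∉ P ∧ (∀ b, b * t' = 0 → b ∈ P) ∧
      P ≤ Ideal.map ιR (Ideal.comap ιR P) := by
  obtain ⟨P₀, hP₀, hc, hann, hfib⟩ := alg K R A hdom (e.symm c) (e.symm t') (fun m h => hct m (by
    have h1 := congrArg e h
    simpa using h1))
  refine ⟨P₀.comap (e.symm : B →+* R ⊗[K] A), Ideal.comap_isPrime _ _, hc, fun b hb => ?_, ?_⟩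
  · apply hann
    rw [RingEquiv.coe_toRingHom, ← map_mul, hb, map_zero]
  · intro x hx
    have h1 := hfib hx
    have h2 : (e : (R ⊗[K] A) →+* B) (e.symm x) ∈ Ideal.map (e : (R ⊗[K] A) →+* B)
        (Ideal.map (Algebra.TensorProduct.includeLeftRingHom : R →+* R ⊗[K] A)
          (Ideal.comap (Algebra.TensorProduct.includeLeftRingHom : R →+* R ⊗[K] A) P₀)) :=
      Ideal.mem_map_of_mem _ h1
    rw [RingEquiv.coe_toRingHom, e.apply_symm_apply, Ideal.map_map] at h2
    have h3 : ((e : (R ⊗[K] A) →+* B).comp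
        (Algebra.TensorProduct.includeLeftRingHom : R →+* R ⊗[K] A)) = ιR :=
      RingHom.ext fun r => hι r
    rw [h3] at h2
    refine Ideal.map_mono ?_ h2
    intro r hr
    rw [Ideal.mem_comap, Ideal.mem_comap, ← hι r]
    simpa using hr

end Groth.Agent.H8.BigOpen
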