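import Mathlib
import Groth.Prelude.Def_CInt
import Groth.Agent.Lib.Helper1.FibreStalk
import Groth.Agent.Lib.Helper8.EtTors.Alg
import Groth.Agent.Lib.Helper8.NormNormal.Geo
import Groth.Agent.Lib.Helper8.BigOpen.Alg

/-!
# Big opens in `X ×ₖ S` are schematically dense (helper8; S16428)
-/

set_option autoImplicit false
universe u
open CategoryTheory CategoryTheory.Limits AlgebraicGeometry TopologicalSpace TensorProduct

namespace Groth.Agent.H8.BigOpen

/-- a pushout square of commutative rings identifies the corner with the tensor product -/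
theorem exists_tensorEquiv {K R A : Type u} [CommRing K] [CommRing R] [CommRing A]
    [Algebra K R] [Algebra K A] {B : CommRingCat.{u}} (ιR : CommRingCat.of R ⟶ B)
    (ιA : CommRingCat.of A ⟶ B)
    (h : IsPushout (CommRingCat.ofHom (algebraMap K R)) (CommRingCat.ofHom (algebraMap K A))
      ιR ιA) :
    ∃ e : (R ⊗[K] A) ≃+* B, ∀ (r : R) (a : A), e (r ⊗ₜ[K] a) = ιR.hom r * ιA.hom a := by
  let e := ((CommRingCat.isPushout_tensorProduct K R A).isoIsPushout _ _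
    h).commRingCatIsoToRingEquiv
  have h1 : ∀ r : R, e (r ⊗ₜ[K] (1 : A)) = ιR.hom r := fun r =>
    congr($((CommRingCat.isPushout_tensorProduct K R A).inl_isoIsPushout_hom _ _ h).hom r)
  have h2 : ∀ a : A, e ((1 : R) ⊗ₜ[K] a) = ιA.hom a := fun a =>
    congr($((CommRingCat.isPushout_tensorProduct K R A).inr_isoIsPushout_hom _ _ h).hom a)
  refine ⟨e, fun r a => ?_⟩
  have h3 : r ⊗ₜ[K] a = (r ⊗ₜ[K] (1 : A)) * ((1 : R) ⊗ₜ[K] a) := by
    rw [Algebra.TensorProduct.tmul_mul_tmul, mul_one, one_mul]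
  rw [h3, map_mul, h1, h2]

/-- Sections of a smooth geometrically irreducible `k`-scheme on a nonempty affine open stay a
domain after any field extension. -/
theorem isDomain_tensor (k : Type u) [Field k] {X : Scheme.{u}}
    (a : X ⟶ Spec (CommRingCat.of k)) [Smooth a] [GeometricallyIrreducible a]
    (X' : X.Opens) (hX' : IsAffineOpen X') [Nonempty X']
    (κ : Type u) [Field κ] [Algebra k κ] [Algebra k Γ(X', ⊤)]
    (halg : CommRingCat.ofHom (algebraMap k Γ(X', ⊤)) =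
      (Scheme.ΓSpecIso (CommRingCat.of k)).inv ≫ (X'.ι ≫ a).appTop) :
    IsDomain (κ ⊗[k] Γ(X', ⊤)) := by
  let y : Spec (CommRingCat.of κ) ⟶ Spec (CommRingCat.of k) :=
    Spec.map (CommRingCat.ofHom (algebraMap k κ))
  haveI : IrreducibleSpace ↥(pullback a y) :=
    pullback_of_geometrically (GeometricallyIrreducible.geometrically_irreducibleSpace (f := a)) κ y
  haveI : IsReduced (pullback a y) :=
    Groth.Agent.H8.EtTors.isReduced_of_smooth (pullback.snd a y)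
  haveI : IsIntegral (pullback a y) := isIntegral_of_irreducibleSpace_of_isReduced _
  let m : pullback (X'.ι ≫ a) y ⟶ pullback a y :=
    pullback.map (X'.ι ≫ a) y a y X'.ι (𝟙 _) (𝟙 _) (by simp) (by simp)
  haveI : IsAffine ↑X' := hX'
  haveI : Nonempty ↥(X' : Scheme.{u}) := ‹Nonempty X'›
  haveI : Nonempty ↥(pullback (X'.ι ≫ a) y) := inferInstance
  haveI : IsIntegral (pullback (X'.ι ≫ a) y) := isIntegral_of_isOpenImmersion m
  haveI : IsDomain Γ(pullback (X'.ι ≫ a) y, ⊤) := inferInstance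
  have hpo := isPushout_appTop_of_isPullback (IsPullback.of_hasPullback (X'.ι ≫ a) y)
  have hpo2 : IsPushout (CommRingCat.ofHom (algebraMap k κ))
      (CommRingCat.ofHom (algebraMap k Γ(X', ⊤)))
      ((Scheme.ΓSpecIso (CommRingCat.of κ)).inv ≫ (pullback.snd (X'.ι ≫ a) y).appTop)
      ((pullback.fst (X'.ι ≫ a) y).appTop) := by
    refine hpo.flip.of_iso (Scheme.ΓSpecIso (CommRingCat.of k))
      (Scheme.ΓSpecIso (CommRingCat.of κ)) (Iso.refl _) (Iso.refl _) ?_ ?_ ?_ ?_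
    · exact Scheme.ΓSpecIso_naturality _
    · rw [halg]
      simp
    · simp
    · simp
  obtain ⟨e, -⟩ := exists_tensorEquiv (K := k) (R := κ) (A := Γ(X', ⊤)) _ _ hpo2
  exact Function.Injective.isDomain e.toRingHom e.injective

/-- the ideal of the local ring at `z` generated by the maximal ideal of the image point -/
noncomputable def Jid {Q S : Scheme.{u}} (σ : Q ⟶ S) (z : Q) : Ideal (Q.presheaf.stalk z) :=
  (IsLocalRing.maximalIdeal (S.presheaf.stalk (σ z))).map (σ.stalkMap z).hom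

theorem Jid_congr {Q S : Scheme.{u}} {σ σ' : Q ⟶ S} (e : σ = σ') (z : Q) :
    Jid σ z = Jid σ' z := by
  subst e
  rfl

theorem Jid_comp {Q Y S : Scheme.{u}} (f : Q ⟶ Y) (g : Y ⟶ S) (z : Q) :
    Jid (f ≫ g) z = (Jid g (f z)).map (f.stalkMap z).hom := by
  have h3 := Scheme.Hom.stalkMap_comp f g z
  unfold Jid
  rw [Ideal.map_map, h3]
  rfl

theorem ringKrullDim_fiberStalk_eq_zero {P S : Scheme.{u}} (π : P ⟶ S) (z : P)
    (h : IsLocalRing.maximalIdeal (P.presheaf.stalk z) ≤ Jid π z) :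
    ringKrullDim ↑(CInt.fiberStalk π z) = 0 := by
  have hIle : Jid π z ≤ IsLocalRing.maximalIdeal (P.presheaf.stalk z) :=
    ((IsLocalRing.local_hom_TFAE (π.stalkMap z).hom).out 0 2 rfl rfl).mp inferInstance
  have hIeq : Jid π z = IsLocalRing.maximalIdeal _ := le_antisymm hIle h
  have hmax : (Jid π z).IsMaximal := hIeq ▸ IsLocalRing.maximalIdeal.isMaximal _
  have hfield : IsField (P.presheaf.stalk z ⧸ Jid π z) :=
    (Ideal.Quotient.maximal_ideal_iff_isField_quotient _).mp hmax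
  have e := Groth.Agent.H1.FibreStalk.fiberStalkEquiv π z
  exact (ringKrullDim_eq_of_ringEquiv e).symm.trans (ringKrullDim_eq_zero_of_isField hfield)

/-- If the prime `𝔭` of the affine scheme `Q` is generated by the image of `ιR`, and germs of
elements of `𝔭` coming from `ιR` lie in `J`, then the maximal ideal at `𝔭` lies in `J`. -/
theorem maximalIdeal_le_of_fib {Q : Scheme.{u}} (hT : IsAffineOpen (⊤ : Q.Opens))
    (𝔭 : PrimeSpectrum Γ(Q, ⊤)) {R : Type u} [CommRing R] (ιR : R →+* Γ(Q, ⊤))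
    (hfib : 𝔭.asIdeal ≤ Ideal.map ιR (Ideal.comap ιR 𝔭.asIdeal))
    (J : Ideal (Q.presheaf.stalk (hT.fromSpec 𝔭)))
    (hJ : ∀ r : R, ιR r ∈ 𝔭.asIdeal →
      (Q.presheaf.germ ⊤ (hT.fromSpec 𝔭) trivial).hom (ιR r) ∈ J) :
    IsLocalRing.maximalIdeal (Q.presheaf.stalk (hT.fromSpec 𝔭)) ≤ J := by
  letI := TopCat.Presheaf.algebra_section_stalk Q.presheaf
    (⟨hT.fromSpec 𝔭, trivial⟩ : (⊤ : Q.Opens))
  haveI hloc : IsLocalization.AtPrime (Q.presheaf.stalk (hT.fromSpec 𝔭)) 𝔭.asIdeal :=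
    hT.isLocalization_stalk' 𝔭 trivial
  intro w hw
  obtain ⟨⟨x, v⟩, hxv⟩ := IsLocalization.surj 𝔭.asIdeal.primeCompl w
  simp only at hxv
  have hx : x ∈ 𝔭.asIdeal := by
    rw [← IsLocalization.AtPrime.to_map_mem_maximal_iff (Q.presheaf.stalk (hT.fromSpec 𝔭))
      𝔭.asIdeal x, ← hxv]
    exact Ideal.mul_mem_right _ _ hw
  have hle : Ideal.map ιR (Ideal.comap ιR 𝔭.asIdeal) ≤
      Ideal.comap (algebraMap Γ(Q, ⊤) (Q.presheaf.stalk (hT.fromSpec 𝔭))) J := by
    rw [Ideal.map_le_iff_le_comap]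
    intro r hr
    exact hJ r hr
  have hxJ : algebraMap Γ(Q, ⊤) (Q.presheaf.stalk (hT.fromSpec 𝔭)) x ∈ J := hle (hfib hx)
  rw [← hxv] at hxJ
  exact (Ideal.mul_unit_mem_iff_mem J (IsLocalization.map_units _ v)).mp hxJ

/-- germs of functions pulled back from the affine open `W` of `S` -/
theorem germ_mem_Jid {Q S : Scheme.{u}} (W : S.Opens) (g : Q ⟶ (W : Scheme.{u})) (z : Q)
    (r : Γ((W : Scheme.{u}), ⊤))
    (hr : (Q.presheaf.germ ⊤ z trivial).hom (g.appTop.hom r) ∈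
      IsLocalRing.maximalIdeal (Q.presheaf.stalk z)) :
    (Q.presheaf.germ ⊤ z trivial).hom (g.appTop.hom r) ∈ Jid (g ≫ W.ι) z := by
  rw [Jid_comp]
  have h1 : (g.stalkMap z).hom (((W : Scheme.{u}).presheaf.germ ⊤ (g z) trivial).hom r) =
      (Q.presheaf.germ ⊤ z trivial).hom (g.appTop.hom r) :=
    Scheme.Hom.germ_stalkMap_apply g ⊤ z trivial r
  rw [← h1] at hr ⊢
  refine Ideal.mem_map_of_mem _ ?_
  obtain ⟨r₀, hr₀⟩ := ((ConcreteCategory.isIso_iff_bijective (W.ι.stalkMap (g z))).mp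
    inferInstance).2 (((W : Scheme.{u}).presheaf.germ ⊤ (g z) trivial).hom r)
  have hr₀' : (W.ι.stalkMap (g z)).hom r₀ =
      ((W : Scheme.{u}).presheaf.germ ⊤ (g z) trivial).hom r := hr₀
  rw [← hr₀'] at hr ⊢
  refine Ideal.mem_map_of_mem _ ?_
  rw [IsLocalRing.mem_maximalIdeal, mem_nonunits_iff] at hr ⊢
  intro hu
  exact hr ((hu.map (W.ι.stalkMap (g z)).hom).map (g.stalkMap z).hom)

theorem germ_eq_zero (k : Type u) [Field k] (X S : Scheme.{u})
    (a : X ⟶ Spec (CommRingCat.of k)) (b : S ⟶ Spec (CommRingCat.of k))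
    [Smooth a] [GeometricallyIrreducible a]
    (U : (pullback a b).Opens)
    (hU : ∀ x : ↥(pullback a b), x ∉ U →
      (2 : WithBot ℕ∞) ≤ ringKrullDim ↑(CInt.fiberStalk (pullback.snd a b) x))
    (V : (pullback a b).Opens) (t : Γ(pullback a b, V))
    (ht : ((pullback a b).presheaf.map (homOfLE (inf_le_left : V ⊓ U ≤ V)).op).hom t = 0)
    (x : ↥(pullback a b)) (hxV : x ∈ V)
    (X' : X.Opens) (hX' : IsAffineOpen X') (hxX' : pullback.fst a b x ∈ X')
    (W : S.Opens) (hW : IsAffineOpen W) (hxW : pullback.snd a b x ∈ W) :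
    ((pullback a b).presheaf.germ V x hxV).hom t = 0 := by
  haveI : IsAffine ↑X' := hX'
  haveI : IsAffine ↑W := hW
  haveI : Nonempty X' := ⟨⟨_, hxX'⟩⟩
  let Q : Scheme.{u} := pullback (X'.ι ≫ a) (W.ι ≫ b)
  let m : Q ⟶ pullback a b :=
    pullback.map (X'.ι ≫ a) (W.ι ≫ b) a b X'.ι W.ι (𝟙 _) (by simp) (by simp)
  haveI : IsOpenImmersion m := inferInstance
  haveI : IsAffine Q := inferInstanceAs (IsAffine (pullback (X'.ι ≫ a) (W.ι ≫ b)))
  have hxm : x ∈ Set.range m := by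
    rw [Scheme.Pullback.range_map]
    refine ⟨?_, ?_⟩
    · rw [Set.mem_preimage, Scheme.Opens.range_ι]
      exact hxX'
    · rw [Set.mem_preimage, Scheme.Opens.range_ι]
      exact hxW
  obtain ⟨xQ, rfl⟩ := hxm
  have hT : IsAffineOpen (⊤ : Q.Opens) := isAffineOpen_top Q
  have hgerm : ∀ (z : Q) (hz : m z ∈ V),
      (m.stalkMap z).hom (((pullback a b).presheaf.germ V (m z) hz).hom t) =
        (Q.presheaf.germ (m ⁻¹ᵁ V) z hz).hom ((m.app V).hom t) :=
    fun z hz => Scheme.Hom.germ_stalkMap_apply m V z hz t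
  have hinj : ∀ z : Q, Function.Injective (m.stalkMap z).hom := fun z =>
    ((ConcreteCategory.isIso_iff_bijective (m.stalkMap z)).mp inferInstance).1
  apply hinj xQ
  rw [hgerm, map_zero]
  obtain ⟨c, hcV, hxc⟩ := hT.exists_basicOpen_le (V := m ⁻¹ᵁ V) ⟨xQ, hxV⟩ trivial
  have hres : ∀ (z : Q) (hz : z ∈ Q.basicOpen c),
      (Q.presheaf.germ (m ⁻¹ᵁ V) z (hcV hz)).hom ((m.app V).hom t) =
        (Q.presheaf.germ (Q.basicOpen c) z hz).hom
          ((Q.presheaf.map (homOfLE hcV).op).hom ((m.app V).hom t)) :=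
    fun z hz => (TopCat.Presheaf.germ_res_apply Q.presheaf (homOfLE hcV) z hz _).symm
  rw [hres xQ hxc]
  suffices h0 : (Q.presheaf.map (homOfLE hcV).op).hom ((m.app V).hom t) = 0 by
    rw [h0, map_zero]
  by_contra hne
  obtain ⟨n, t', ht'⟩ := exists_eq_pow_mul_of_isAffineOpen Q ⊤ hT c
    ((Q.presheaf.map (homOfLE hcV).op).hom ((m.app V).hom t))
  have ht'' : (Q.presheaf.map (homOfLE (le_top : Q.basicOpen c ≤ ⊤)).op).hom t' =
      ((Q.presheaf.map (homOfLE (le_top : Q.basicOpen c ≤ ⊤)).op).hom c) ^ n *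
        (Q.presheaf.map (homOfLE hcV).op).hom ((m.app V).hom t) := ht'
  have hunit : IsUnit ((Q.presheaf.map (homOfLE (le_top : Q.basicOpen c ≤ ⊤)).op).hom c) :=
    Q.toRingedSpace.isUnit_res_basicOpen c
  have hct : ∀ m' : ℕ, c ^ m' * t' ≠ 0 := by
    intro m' h
    apply hne
    have h1 := congrArg (Q.presheaf.map (homOfLE (le_top : Q.basicOpen c ≤ ⊤)).op).hom h
    rw [map_mul, map_pow, map_zero, ht'', ← mul_assoc, ← pow_add] at h1
    exact (hunit.pow _).mul_right_eq_zero.mp h1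
  -- the algebra
  letI algR : Algebra k Γ((W : Scheme.{u}), ⊤) :=
    ((Scheme.ΓSpecIso (CommRingCat.of k)).inv ≫ (W.ι ≫ b).appTop).hom.toAlgebra
  letI algA : Algebra k Γ((X' : Scheme.{u}), ⊤) :=
    ((Scheme.ΓSpecIso (CommRingCat.of k)).inv ≫ (X'.ι ≫ a).appTop).hom.toAlgebra
  have hpo := isPushout_appTop_of_isPullback (IsPullback.of_hasPullback (X'.ι ≫ a) (W.ι ≫ b))
  have hpo2 : IsPushout (CommRingCat.ofHom (algebraMap k Γ((W : Scheme.{u}), ⊤)))
      (CommRingCat.ofHom (algebraMap k Γ((X' : Scheme.{u}), ⊤)))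
      (pullback.snd (X'.ι ≫ a) (W.ι ≫ b)).appTop (pullback.fst (X'.ι ≫ a) (W.ι ≫ b)).appTop := by
    refine hpo.flip.of_iso (Scheme.ΓSpecIso (CommRingCat.of k)) (Iso.refl _) (Iso.refl _)
      (Iso.refl _) ?_ ?_ ?_ ?_
    · change (W.ι ≫ b).appTop ≫ 𝟙 _ = (Scheme.ΓSpecIso (CommRingCat.of k)).hom ≫
        ((Scheme.ΓSpecIso (CommRingCat.of k)).inv ≫ (W.ι ≫ b).appTop)
      simp
    · change (X'.ι ≫ a).appTop ≫ 𝟙 _ = (Scheme.ΓSpecIso (CommRingCat.of k)).hom ≫
        ((Scheme.ΓSpecIso (CommRingCat.of k)).inv ≫ (X'.ι ≫ a).appTop)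
      simp
    · simp
    · simp
  obtain ⟨e, he⟩ := exists_tensorEquiv (K := k) (R := Γ((W : Scheme.{u}), ⊤))
    (A := Γ((X' : Scheme.{u}), ⊤)) _ _ hpo2
  have hdom : ∀ (p : Ideal Γ((W : Scheme.{u}), ⊤)) [p.IsPrime],
      IsDomain (p.ResidueField ⊗[k] Γ((X' : Scheme.{u}), ⊤)) :=
    fun p _ => isDomain_tensor k a X' hX' p.ResidueField rfl
  obtain ⟨𝔓, h𝔓, hc𝔓, hann, hfib⟩ := algmain e (pullback.snd (X'.ι ≫ a) (W.ι ≫ b)).appTop.hom
    (fun r => by rw [he, map_one, mul_one]) hdom c t' hct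
  -- the point
  let 𝔭 : PrimeSpectrum Γ(Q, ⊤) := ⟨𝔓, h𝔓⟩
  have hzc : hT.fromSpec 𝔭 ∈ Q.basicOpen c := by
    have h1 : 𝔭 ∈ hT.fromSpec ⁻¹ᵁ Q.basicOpen c := by
      rw [hT.fromSpec_preimage_basicOpen]
      exact hc𝔓
    exact h1
  have hzV : m (hT.fromSpec 𝔭) ∈ V := hcV hzc
  have hzU : m (hT.fromSpec 𝔭) ∈ U := by
    by_contra hzU
    have h2 := hU (m (hT.fromSpec 𝔭)) hzU
    rw [ringKrullDim_fiberStalk_eq_zero (pullback.snd a b) (m (hT.fromSpec 𝔭)) ?_] at h2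
    · exact absurd h2 (by norm_num)
    · intro u hu
      have h3 : (m.stalkMap (hT.fromSpec 𝔭)).hom u ∈
          IsLocalRing.maximalIdeal (Q.presheaf.stalk (hT.fromSpec 𝔭)) := by
        rw [IsLocalRing.mem_maximalIdeal, mem_nonunits_iff] at hu ⊢
        exact fun h => hu ((isUnit_map_iff (m.stalkMap (hT.fromSpec 𝔭)).hom u).mp h)
      have h4 : IsLocalRing.maximalIdeal (Q.presheaf.stalk (hT.fromSpec 𝔭)) ≤
          Jid (pullback.snd (X'.ι ≫ a) (W.ι ≫ b) ≫ W.ι) (hT.fromSpec 𝔭) := by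
        refine maximalIdeal_le_of_fib hT 𝔭 (pullback.snd (X'.ι ≫ a) (W.ι ≫ b)).appTop.hom hfib _
          fun r hr => ?_
        refine germ_mem_Jid W _ _ r ?_
        letI := TopCat.Presheaf.algebra_section_stalk Q.presheaf
          (⟨hT.fromSpec 𝔭, trivial⟩ : (⊤ : Q.Opens))
        haveI hloc : IsLocalization.AtPrime (Q.presheaf.stalk (hT.fromSpec 𝔭)) 𝔭.asIdeal :=
          hT.isLocalization_stalk' 𝔭 trivial
        exact (IsLocalization.AtPrime.to_map_mem_maximal_iff (Q.presheaf.stalk (hT.fromSpec 𝔭))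
          𝔭.asIdeal _).mpr hr
      have h5 : pullback.snd (X'.ι ≫ a) (W.ι ≫ b) ≫ W.ι = m ≫ pullback.snd a b :=
        (pullback.lift_snd _ _ _).symm
      have h6 := h4 h3
      rw [Jid_congr h5, Jid_comp] at h6
      obtain ⟨u', hu', hu'u⟩ := (Ideal.mem_map_iff_of_surjective _
        ((ConcreteCategory.isIso_iff_bijective (m.stalkMap (hT.fromSpec 𝔭))).mp
          inferInstance).2).mp h6
      rw [← hinj _ hu'u]
      exact hu'
  have hg0 : ((pullback a b).presheaf.germ V (m (hT.fromSpec 𝔭)) hzV).hom t = 0 := by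
    have h1 := TopCat.Presheaf.germ_res_apply (pullback a b).presheaf
      (homOfLE (inf_le_left : V ⊓ U ≤ V)) (m (hT.fromSpec 𝔭)) ⟨hzV, hzU⟩ t
    rw [← h1]
    exact (congrArg _ ht).trans (map_zero _)
  have hg1 : (Q.presheaf.germ (m ⁻¹ᵁ V) (hT.fromSpec 𝔭) hzV).hom ((m.app V).hom t) = 0 := by
    rw [← hgerm _ hzV, hg0, map_zero]
  have hg2 : (Q.presheaf.germ (Q.basicOpen c) (hT.fromSpec 𝔭) hzc).hom
      ((Q.presheaf.map (homOfLE hcV).op).hom ((m.app V).hom t)) = 0 := by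
    rw [← hres _ hzc, hg1]
  have hg3 : (Q.presheaf.germ ⊤ (hT.fromSpec 𝔭) trivial).hom t' = 0 := by
    have h5 := TopCat.Presheaf.germ_res_apply Q.presheaf
      (homOfLE (le_top : Q.basicOpen c ≤ ⊤)) (hT.fromSpec 𝔭) hzc t'
    rw [← h5]
    exact (congrArg _ ht'').trans (by rw [map_mul, hg2, mul_zero])
  letI := TopCat.Presheaf.algebra_section_stalk Q.presheaf
    (⟨hT.fromSpec 𝔭, trivial⟩ : (⊤ : Q.Opens))
  haveI hloc : IsLocalization.AtPrime (Q.presheaf.stalk (hT.fromSpec 𝔭)) 𝔭.asIdeal :=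
    hT.isLocalization_stalk' 𝔭 trivial
  obtain ⟨v, hv⟩ := (IsLocalization.map_eq_zero_iff 𝔭.asIdeal.primeCompl
    (Q.presheaf.stalk (hT.fromSpec 𝔭)) t').mp hg3
  exact v.2 (hann v hv)

theorem main (k : Type u) [Field k] (X S : Scheme.{u})
    (a : X ⟶ Spec (CommRingCat.of k)) (b : S ⟶ Spec (CommRingCat.of k))
    [Smooth a] [GeometricallyIrreducible a]
    (U : (pullback a b).Opens)
    (hU : ∀ x : ↥(pullback a b), x ∉ U →
      (2 : WithBot ℕ∞) ≤ ringKrullDim ↑(CInt.fiberStalk (pullback.snd a b) x)) :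
    CInt.IsSchematicallyDense U := by
  intro V
  refine (injective_iff_map_eq_zero
    ((pullback a b).presheaf.map (homOfLE (inf_le_left : V ⊓ U ≤ V)).op).hom).mpr ?_
  intro t ht
  refine NormNormal.sec_ext t 0 fun x hxV => ?_
  rw [map_zero]
  obtain ⟨X', hX', hxX', -⟩ := exists_isAffineOpen_mem_and_subset
    (x := pullback.fst a b x) (U := ⊤) trivial
  obtain ⟨W, hW, hxW, -⟩ := exists_isAffineOpen_mem_and_subset
    (x := pullback.snd a b x) (U := ⊤) trivial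
  exact germ_eq_zero k X S a b U hU V t ht x hxV X' hX' hxX' W hW hxW

end Groth.Agent.H8.BigOpen
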